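/-
Ordered products over the positive roots, on commuting sets of roots.
-/
import Cfsg.Agent.Lib.Lie.Rel.Parabolic

set_option autoImplicit false

namespace CfsgLib.Lie.Chev

open Cfsg.Lie (ChevalleyDatum)

namespace Rel

variable {D : ChevalleyDatum} {X : Aux} {F : Type*} [Field F] {G : Type*} [Group G] (R : Rel D X F G)
include R

/-- the element of `U` with coordinates `f` -/
def PV (f : ℕ → F) : G := R.oprod (half D) (half D) f

/-- pairwise commuting root groups -/
def ComOn (Q : Set ℕ) : Prop := ∀ r ∈ Q, ∀ s ∈ Q, ∀ a b : F, Commute (R.xe r a) (R.xe s b)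

theorem PV_mem (f : ℕ → F) : R.PV f ∈ R.UP := R.oprod_mem _ _ f

theorem oprod_zero : ∀ n k, R.oprod k n (0 : ℕ → F) = 1 := by
  intro n
  induction n with
  | zero => intro k; simp [oprod]
  | succ n ih => intro k; rw [R.oprod_succ, ih, Pi.zero_apply, R.xe_zero, one_mul]

theorem PV_zero : R.PV (0 : ℕ → F) = 1 := R.oprod_zero _ _

theorem oprod_add {Q : Set ℕ} (hQ : R.ComOn Q) {f g : ℕ → F} (hf : ∀ r ∉ Q, f r = 0) (hg : ∀ r ∉ Q, g r = 0) :
    ∀ n k, R.oprod k n (f + g) = R.oprod k n f * R.oprod k n g := by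
  intro n
  induction n with
  | zero => intro k; simp [oprod]
  | succ n ih =>
    intro k
    rw [R.oprod_succ, R.oprod_succ, R.oprod_succ, ih, Pi.add_apply, ← R.xe_add']
    have hc : Commute (R.xe k (g k)) (R.oprod (k + 1) n f) := by
      by_cases hk : k ∈ Q
      · refine Commute.list_prod_right _ _ fun x hx => ?_
        obtain ⟨r, -, rfl⟩ := List.mem_map.1 hx
        by_cases hr : r ∈ Q
        · exact hQ k hk r hr _ _
        · rw [hf r hr, R.xe_zero]; exact Commute.one_right _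
      · rw [hg k hk, R.xe_zero]; exact Commute.one_left _
    simp only [mul_assoc]
    rw [← mul_assoc (R.xe k (g k)), hc.eq, mul_assoc]

theorem PV_add {Q : Set ℕ} (hQ : R.ComOn Q) {f g : ℕ → F} (hf : ∀ r ∉ Q, f r = 0) (hg : ∀ r ∉ Q, g r = 0) :
    R.PV (f + g) = R.PV f * R.PV g := R.oprod_add hQ hf hg _ _

theorem PV_single {r : ℕ} (hr : half D ≤ r) (hr' : r < D.nroots) (c : F) : R.PV (Pi.single r c) = R.xe r c := by
  have key : ∀ n k, k ≤ r → r < k + n → R.oprod k n (Pi.single r c) = R.xe r c := by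
    intro n
    induction n with
    | zero => intros; omega
    | succ n ih =>
      intro k h1 h2
      rw [R.oprod_succ]
      by_cases hk : k = r
      · subst hk
        rw [Pi.single_eq_same, R.oprod_congr (t' := 0) (fun s hs _ => Pi.single_eq_of_ne (by omega) _),
          R.oprod_zero, mul_one]
      · rw [Pi.single_eq_of_ne hk, R.xe_zero, one_mul, ih (k + 1) (by omega) (by omega)]
  exact key _ _ hr (by have := R.cert.nroots_eq; omega)

theorem PV_inj {f g : ℕ → F} (h : R.PV f = R.PV g) {r : ℕ} (hr : half D ≤ r) (hr' : r < D.nroots) : f r = g r :=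
  R.oprod_inj _ _ f g le_rfl (by have := R.cert.nroots_eq; omega) (congrArg R.θ h) r hr
    (by have := R.cert.nroots_eq; omega)

/-- the coordinate vector supported on `A` with values `f` -/
def vec (A : Finset (Fin D.nroots)) (f : Fin D.nroots → F) : ℕ → F := ∑ r ∈ A, Pi.single (r : ℕ) (f r)

theorem vec_apply (A : Finset (Fin D.nroots)) (f : Fin D.nroots → F) (r : Fin D.nroots) :
    vec A f (r : ℕ) = if r ∈ A then f r else 0 := by
  classical
  unfold vec
  rw [Finset.sum_apply]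
  split_ifs with h
  · rw [Finset.sum_eq_single r]
    · rw [Pi.single_eq_same]
    · exact fun s _ hs => Pi.single_eq_of_ne (fun e => hs (Fin.ext e).symm) _
    · exact fun h' => absurd h h'
  · exact Finset.sum_eq_zero fun s hs => Pi.single_eq_of_ne (fun (e : (r : ℕ) = (s : ℕ)) => h (by rwa [Fin.ext e])) _

theorem vec_zero_of_notMem {A : Finset (Fin D.nroots)} {f : Fin D.nroots → F} {Q : Set ℕ}
    (hA : ∀ r ∈ A, (r : ℕ) ∈ Q) : ∀ r ∉ Q, vec A f r = 0 := by
  intro r hr
  unfold vec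
  rw [Finset.sum_apply]
  exact Finset.sum_eq_zero fun s hs => Pi.single_eq_of_ne (fun (e : r = (s : ℕ)) => hr (e ▸ hA s hs)) _

theorem PV_induction {Q : Set ℕ} (hQ : R.ComOn Q) {A : Finset (Fin D.nroots)} (f : Fin D.nroots → F)
    (hA : ∀ r ∈ A, half D ≤ (r : ℕ) ∧ (r : ℕ) ∈ Q) {p : Finset (Fin D.nroots) → G → Prop} (h0 : p ∅ 1)
    (hins : ∀ r B x, r ∈ A → r ∉ B → B ⊆ A → p B x → p (insert r B) (R.xe r (f r) * x)) :
    p A (R.PV (vec A f)) := by
  classical
  suffices h : ∀ B, B ⊆ A → p B (R.PV (vec B f)) from h A le_rfl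
  intro B
  induction B using Finset.induction_on with
  | empty => intro _; simp only [vec, Finset.sum_empty, R.PV_zero]; exact h0
  | insert r B hr ih =>
    intro hB
    have hrA : r ∈ A := hB (Finset.mem_insert_self r B)
    have hBA : B ⊆ A := fun x hx => hB (Finset.mem_insert_of_mem hx)
    have e : vec (insert r B) f = (Pi.single (r : ℕ) (f r) : ℕ → F) + vec B f := by
      unfold vec; rw [Finset.sum_insert hr]
    rw [e, R.PV_add hQ (fun s hs => Pi.single_eq_of_ne (M := fun _ => F) (fun (e : s = (r : ℕ)) => hs (by rw [e]; exact (hA r hrA).2)) _)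
      (R.vec_zero_of_notMem fun s hs => (hA s (hBA hs)).2), R.PV_single (hA r hrA).1 r.2]
    exact hins r B _ hrA hr hBA (ih hBA)

/-- a monomial element carries a commuting positive product to a product -/
theorem conj_PV {Q : Set ℕ} (hQ : R.ComOn Q) {g : G} {σ : Equiv.Perm (Fin D.nroots)} {a : Fin D.nroots → F}
    (hg : R.IsMon g σ a) {A : Finset (Fin D.nroots)} (f : Fin D.nroots → F)
    (hA : ∀ r ∈ A, half D ≤ (r : ℕ) ∧ (r : ℕ) ∈ Q) (hσ : ∀ r ∈ A, half D ≤ (σ r : ℕ)) :
    g * R.PV (vec A f) * g⁻¹ = R.PV (∑ r ∈ A, Pi.single (σ r : ℕ) (a r * f r)) := by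
  classical
  let Q' : Set ℕ := {s | ∃ r ∈ A, (σ r : ℕ) = s}
  have hQ' : R.ComOn Q' := by
    rintro _ ⟨r, hr, rfl⟩ _ ⟨s, hs, rfl⟩ u v
    have h := (hQ _ (hA r hr).2 _ (hA s hs).2 ((a r)⁻¹ * u) ((a s)⁻¹ * v)).map (MulAut.conj g).toMonoidHom
    simp only [MulEquiv.coe_toMonoidHom, MulAut.conj_apply] at h
    rwa [(hg r).2.2.2, (hg s).2.2.2, mul_inv_cancel_left₀ (hg r).1, mul_inv_cancel_left₀ (hg s).1] at h
  refine R.PV_induction hQ f hA
    (p := fun B x => g * x * g⁻¹ = R.PV (∑ r ∈ B, Pi.single (σ r : ℕ) (a r * f r))) ?_ ?_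
  · simp [R.PV_zero]
  · intro r B x hr hrB hBA hx
    rw [Finset.sum_insert hrB, R.PV_add hQ', R.PV_single (hσ r hr) (σ r).2, ← hx, ← (hg r).2.2.2]
    · group
    · exact fun s hs => Pi.single_eq_of_ne (M := fun _ => F) (fun e => hs ⟨r, hr, e.symm⟩) _
    · intro s hs
      rw [Finset.sum_apply]
      exact Finset.sum_eq_zero fun t ht => Pi.single_eq_of_ne (M := fun _ => F)
        (fun e => hs ⟨t, hBA ht, e.symm⟩) _

end Rel

end CfsgLib.Lie.Chev
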