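/-
The centralizer, in characteristic two, of a certified product of commuting root elements.
-/
import Cfsg.Agent.Lib.Lie.CharTwoCent.Parabolic
import Cfsg.Agent.Lib.Lie.Rel.Inst

set_option autoImplicit false

namespace CfsgLib.Lie.Chev

open Cfsg.Lie (ChevalleyDatum)
open CfsgLib.Lie.Exchange
open CentData (evenC has_iff)

theorem prod_zpow_zip {A : Type*} [CommGroup A] {n : ℕ} (c : Fin n → A) (g : Fin n → ℕ → ℤ) :
    ∀ L : List (ℕ × ℤ), ∏ i, c i ^ (L.map fun p => g i p.1 * p.2).sum =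
      (L.map fun p => (∏ i, c i ^ g i p.1) ^ p.2).prod
  | [] => by simp
  | p :: L => by
    simp only [List.map_cons, List.sum_cons, List.prod_cons, zpow_add, Finset.prod_mul_distrib,
      prod_zpow_zip c g L, zpow_mul, Finset.prod_zpow]

namespace Rel

variable {D : ChevalleyDatum} {X : Aux} {F : Type*} [Field F] [CharP F 2] {G : Type*} [Group G] (R : Rel D X F G)
include R
variable {d : CentData}

/-- the radical roots that centralise -/
def zSet (d : CentData) (D : ChevalleyDatum) (X : Aux) : Set (Fin D.nroots) :=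
  {r | r ∈ radSet D X {j | j ∈ d.K} ∧ (r : ℕ) ∉ d.exRoots}

theorem isRad_iff (r : Fin D.nroots) : d.isRad D X r = true ↔ r ∈ radSet D X {j | j ∈ d.K} := by
  simp only [CentData.isRad, radSet, subSet, Bool.and_eq_true, nat_ble_iff, List.any_eq_true, List.mem_range,
    Bool.not_eq_true', Set.mem_setOf_eq, decide_eq_false_iff_not, not_forall]
  refine and_congr_right fun _ => ⟨fun ⟨i, hi, h1, h2⟩ => ⟨i, hi, fun e => ?_, h2⟩, fun ⟨i, hi, h1, h2⟩ => ⟨i, hi, ?_, h2⟩⟩
  · rw [has_iff.2 e] at h1; cases h1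
  · exact Bool.eq_false_iff.2 fun e => h1 (has_iff.1 e)

theorem ex_props (hEx : d.chkEx D X = true) {x : ℕ × ℕ × ℕ} (hx : x ∈ d.Ex) :
    ∃ h : x.1 < D.nroots, (⟨x.1, h⟩ : Fin D.nroots) ∈ radSet D X {j | j ∈ d.K} ∧ x.2.1 ∈ d.T ∧ x.2.2 ∈ d.S ∧
      x.2.2 ∉ d.T ∧ x.1 ∉ d.S ∧
      (∀ s ∈ d.S, s ≠ x.2.1 → ∀ c ∈ D.commTerms s x.1, evenC c = true) ∧
      ∃ C : ℤ, C % 2 ≠ 0 ∧ (D.commTerms x.2.1 x.1).filter (fun c => !evenC c) = [(x.2.2, C, 1, 1)] ∨
        x.2.1 ∉ d.S := by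
  simp only [CentData.chkEx, Bool.and_eq_true, List.all_eq_true, nat_blt_iff, Bool.not_eq_true'] at hEx
  obtain ⟨⟨⟨⟨⟨⟨h1, h2⟩, h3⟩, h4⟩, h5⟩, h6⟩, h7⟩ := hEx.1.2 x hx
  refine ⟨h1, (R.isRad_iff ⟨x.1, h1⟩).1 h2, has_iff.1 h3, has_iff.1 h4, (fun e => by rw [has_iff.2 e] at h5; cases h5),
    (fun e => by rw [has_iff.2 e] at h6; cases h6), fun s hs hne c hc => ?_, ?_⟩
  · have h := h7 s hs
    rw [if_neg (fun e => hne (nat_beq_iff.1 e)), List.all_eq_true] at h
    exact h c hc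
  · by_cases hp : x.2.1 ∈ d.S
    · have h := h7 _ hp
      rw [if_pos (nat_beq_iff.2 rfl)] at h
      split at h
      · next f C e =>
        refine ⟨C, Or.inl ⟨?_, by rw [e, nat_beq_iff.1 h]⟩⟩
        have hm : ((f, C, 1, 1) : ℕ × ℤ × ℕ × ℕ) ∈ (D.commTerms x.2.1 x.1).filter fun c => !evenC c := by simp [e]
        simp only [List.mem_filter, evenC, Bool.not_eq_true', decide_eq_false_iff_not] at hm
        exact hm.2
      · simp at h
    · exact ⟨0, Or.inr hp⟩

theorem exists_exRoot (hEx : d.chkEx D X = true) {e : ℕ} (he : e ∈ d.exRoots) :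
    ∃ h : e < D.nroots, (⟨e, h⟩ : Fin D.nroots) ∈ radSet D X {j | j ∈ d.K} := by
  obtain ⟨x, hx, rfl⟩ := List.mem_map.1 he
  obtain ⟨h, h1, -⟩ := R.ex_props hEx hx
  exact ⟨h, h1⟩

theorem comm_word_mem_Z (hEx : d.chkEx D X = true) {r s : Fin D.nroots} (hr : r ∈ radSet D X {j | j ∈ d.K})
    (hs : s ∈ radSet D X {j | j ∈ d.K}) (hne : s ≠ r) (t u : F) :
    ∃ W ∈ R.US (zSet d D X), R.xe s u * R.xe r t = R.xe r t * R.xe s u * W := by
  have hneg : (s : ℕ) ≠ D.neg r := fun e => ((R.cert.half_le_neg_iff r.2).1 (e ▸ hs.1)).not_ge hr.1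
  refine ⟨_, ?_, R.xe_comm_odd r.2 s.2 (fun e => hne (Fin.ext e)) hneg t u⟩
  refine list_prod_mem fun x hx => ?_
  obtain ⟨c, hc, rfl⟩ := List.mem_map.1 hx
  simp only [List.mem_filter, Bool.not_eq_true'] at hc
  have hlt := (R.cert.commTerms_props r.2 s.2 c hc.1).1
  refine R.xe_mem_US (S := zSet d D X) (r := ⟨c.1, hlt⟩) ⟨R.rad_closed _ hr (Or.inl hs.1) hc.1 hlt, fun e => ?_⟩ _
  simp only [CentData.chkEx, Bool.and_eq_true, List.all_eq_true, List.mem_range, Bool.or_eq_true, nat_beq_iff,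
    Bool.not_eq_true'] at hEx
  rcases hEx.2 r r.2 with h | h
  · rw [(R.isRad_iff r).2 hr] at h; cases h
  · rcases h s s.2 with (h | h) | h
    · rw [(R.isRad_iff s).2 hs] at h; cases h
    · exact hne (Fin.ext h).symm
    · rcases h c hc.1 with h | h
      · rw [hc.2] at h; cases h
      · rw [has_iff.2 e] at h; cases h

theorem UR_le_normalizer_Z (hEx : d.chkEx D X = true) :
    R.UR {j | j ∈ d.K} ≤ Subgroup.normalizer (R.US (zSet d D X) : Set G) := by
  refine R.US_le fun r hr t => R.xe_mem_normalizer (fun s hs v u => ?_) t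
  by_cases hrs : r = s
  · subst hrs
    rw [← R.xe_neg, R.xe_add', R.xe_add']
    exact R.xe_mem_US hs _
  · obtain ⟨W, hW, h⟩ := R.comm_word_mem_Z hEx hs.1 hr hrs v u
    rw [show (R.xe r u)⁻¹ * R.xe s v * R.xe r u = R.xe s v * W⁻¹ from ?_]
    · exact mul_mem (R.xe_mem_US hs v) (inv_mem hW)
    · calc (R.xe r u)⁻¹ * R.xe s v * R.xe r u = (R.xe r u)⁻¹ * (R.xe s v * R.xe r u * W) * W⁻¹ := by group
        _ = (R.xe r u)⁻¹ * (R.xe r u * R.xe s v) * W⁻¹ := by rw [h]
        _ = R.xe s v * W⁻¹ := by group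

/-- product over a list of roots -/
def prodL (L : List ℕ) (a : ℕ → F) : G := (L.map fun e => R.xe e (a e)).prod

theorem prodL_mem (hEx : d.chkEx D X = true) {L : List ℕ} (hL : ∀ e ∈ L, e ∈ d.exRoots) (a : ℕ → F) :
    R.prodL L a ∈ R.UR {j | j ∈ d.K} := by
  refine list_prod_mem fun x hx => ?_
  obtain ⟨e, he, rfl⟩ := List.mem_map.1 hx
  obtain ⟨h, h1⟩ := R.exists_exRoot hEx (hL e he)
  exact R.xe_mem_US (S := radSet D X {j | j ∈ d.K}) (r := ⟨e, h⟩) h1 _

theorem absorb (hEx : d.chkEx D X = true) (e : ℕ) (c : F) : ∀ L : List ℕ, (∀ x ∈ L, x ∈ d.exRoots) → L.Nodup →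
    e ∈ L → ∀ a : ℕ → F, ∃ a' : ℕ → F, ∃ z ∈ R.US (zSet d D X), R.xe e c * R.prodL L a = R.prodL L a' * z
  | [], _, _, he, _ => absurd he (by simp)
  | h :: L, hL, hnd, he, a => by
    classical
    rw [List.nodup_cons] at hnd
    have hL' : ∀ x ∈ L, x ∈ d.exRoots := fun x hx => hL x (List.mem_cons_of_mem _ hx)
    by_cases heh : e = h
    · subst heh
      refine ⟨Function.update a e (c + a e), 1, one_mem _, ?_⟩
      have e1 : L.map (fun x => R.xe x (Function.update a e (c + a e) x)) = L.map fun x => R.xe x (a x) :=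
        List.map_congr_left fun x hx => by rw [Function.update_of_ne (by rintro rfl; exact hnd.1 hx)]
      simp only [prodL, List.map_cons, List.prod_cons, mul_one, e1, Function.update_self, ← mul_assoc, R.xe_add']
    · have heL : e ∈ L := (List.mem_cons.1 he).resolve_left heh
      obtain ⟨a', z, hz, hrest⟩ := absorb hEx e c L hL' hnd.2 heL a
      obtain ⟨hhlt, hhr⟩ := R.exists_exRoot hEx (hL h List.mem_cons_self)
      obtain ⟨helt, her⟩ := R.exists_exRoot hEx (hL' e heL)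
      obtain ⟨W, hW, hcomm⟩ := R.comm_word_mem_Z hEx (r := ⟨h, hhlt⟩) (s := ⟨e, helt⟩) hhr her
        (fun e' => heh (congrArg Fin.val e')) (a h) c
      have hT := R.prodL_mem hEx hL' a
      have hW' := (Subgroup.mem_normalizer_iff.1 (R.UR_le_normalizer_Z hEx (inv_mem hT)) W).1 hW
      rw [inv_inv] at hW'
      refine ⟨Function.update a' h (a h), z * ((R.prodL L a)⁻¹ * W * R.prodL L a), mul_mem hz hW', ?_⟩
      have e1 : L.map (fun x => R.xe x (Function.update a' h (a h) x)) = L.map fun x => R.xe x (a' x) :=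
        List.map_congr_left fun x hx => by rw [Function.update_of_ne (by rintro rfl; exact hnd.1 hx)]
      show R.xe e c * (((h :: L).map fun x => R.xe x (a x)).prod) = _
      rw [List.map_cons, List.prod_cons, show R.prodL (h :: L) (Function.update a' h (a h)) =
        R.xe h (a h) * R.prodL L a' by simp only [prodL, List.map_cons, List.prod_cons, e1, Function.update_self],
        ← mul_assoc, hcomm]
      show R.xe h (a h) * R.xe e c * W * R.prodL L a = _
      calc R.xe h (a h) * R.xe e c * W * R.prodL L a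
          = R.xe h (a h) * (R.xe e c * R.prodL L a) * ((R.prodL L a)⁻¹ * W * R.prodL L a) := by group
        _ = _ := by rw [hrest]; group

theorem exists_rad_decomp (hEx : d.chkEx D X = true) {q : G} (hq : q ∈ R.UR {j | j ∈ d.K}) :
    ∃ a : ℕ → F, ∃ z ∈ R.US (zSet d D X), q = R.prodL d.exRoots a * z := by
  refine closure_induction_symm R.gens_symm ?h1 ?hmul hq
  case h1 =>
    refine ⟨0, 1, one_mem _, ?_⟩
    rw [prodL, mul_one, List.prod_eq_one]
    intro x hx
    obtain ⟨e, -, rfl⟩ := List.mem_map.1 hx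
    exact R.xe_zero e
  case hmul =>
    intro x hx y ih
    obtain ⟨r, hr, t, rfl⟩ := hx
    obtain ⟨a, z, hz, rfl⟩ := ih
    by_cases hre : (r : ℕ) ∈ d.exRoots
    · have hnd : d.exRoots.Nodup := by
        simp only [CentData.chkEx, Bool.and_eq_true, decide_eq_true_iff] at hEx
        exact hEx.1.1.1
      obtain ⟨a', z', hz', h⟩ := R.absorb hEx r t d.exRoots (fun _ h => h) hnd hre a
      exact ⟨a', z' * z, mul_mem hz' hz, by rw [← mul_assoc, h, mul_assoc]⟩
    · have hP := R.prodL_mem hEx (fun _ h => h) a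
      have hZ := (Subgroup.mem_normalizer_iff.1 (R.UR_le_normalizer_Z hEx (inv_mem hP)) _).1
        (R.xe_mem_US (S := zSet d D X) (r := r) ⟨hr, hre⟩ t)
      rw [inv_inv] at hZ
      exact ⟨a, _, mul_mem hZ hz, by group⟩

/-- conjugation by one moving root element -/
theorem conj_ex (hS : d.chkS D = true) (hEx : d.chkEx D X = true) {x : ℕ × ℕ × ℕ} (hx : x ∈ d.Ex) (c : F)
    {f : ℕ → F} (hf : ∀ r ∉ supp d, f r = 0) :
    R.xe x.1 c * R.PV f * (R.xe x.1 c)⁻¹ = R.PV (f + Pi.single x.2.2 (c * f x.2.1)) := by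
  classical
  obtain ⟨he, -, hpT, hfS, hfT, heS, hother, C, hC⟩ := R.ex_props hEx hx
  obtain ⟨hCodd, hCl⟩ := hC.resolve_right (fun h => h (CentData.T_sub hS hpT))
  obtain ⟨e, p, φ⟩ := x
  simp only at he hpT hfS hfT heS hother hCodd hCl ⊢
  have hφ := CentData.S_pos hS hfS
  have hp := CentData.S_pos hS (CentData.T_sub hS hpT)
  have hneg : ∀ s ∈ d.S, e ≠ D.neg s := fun s hs h => by
    obtain ⟨x', hx'⟩ : ∃ x', (⟨e, he⟩ : Fin D.nroots) = x' := ⟨_, rfl⟩
    obtain ⟨_, hr⟩ := R.exists_exRoot hEx (e := e) (List.mem_map.2 ⟨_, hx, rfl⟩)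
    have hep : half D ≤ e := hr.1
    rw [h] at hep
    exact ((R.cert.half_le_neg_iff (CentData.S_pos hS hs).1).1 hep).not_ge (CentData.S_pos hS hs).2
  have hcom : ∀ s ∈ d.S, s ≠ p → ∀ v, Commute (R.xe e c) (R.xe s v) := fun s hs hsp v =>
    (R.commute_of_even (CentData.S_pos hS hs).1 he (Or.inr ⟨hneg s hs, hother s hs hsp⟩) v c).symm
  have hfφ : ∀ v, Commute (R.xe e c) (R.xe φ v) := hcom φ hfS fun e => hfT (e ▸ hpT)
  have hkey : ∀ v, R.xe e c * R.xe p v * (R.xe e c)⁻¹ = R.xe p v * R.xe φ (c * v) := by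
    intro v
    have hne : e ≠ p := fun h => heS (h ▸ CentData.T_sub hS hpT)
    have h := R.xe_comm_odd hp.1 he hne (hneg p (CentData.T_sub hS hpT)) v c
    rw [hCl] at h
    simp only [List.map_cons, List.map_nil, List.prod_cons, List.prod_nil, mul_one, pow_one, cast_odd hCodd,
      one_mul] at h
    rw [h, CharTwo.neg_eq, mul_comm v c, mul_assoc (R.xe p v), (hfφ _).eq]
    group
  have hQ := R.comOn_supp hS
  suffices key : R.xe e c * R.PV (vec (suppFin d D) fun r => f r) * (R.xe e c)⁻¹ =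
      R.PV (vec (suppFin d D) (fun r => f r) + Pi.single φ (c * vec (suppFin d D) (fun r => f r) p)) by
    rwa [← R.eq_vec hS hf] at key
  refine R.PV_induction hQ _ (R.suppFin_spec hS)
    (p := fun B x => R.xe e c * x * (R.xe e c)⁻¹ =
      R.PV (vec B (fun r => f r) + Pi.single φ (c * vec B (fun r => f r) p))) ?_ ?_
  · simp [vec, R.PV_zero]
  · intro s B x hs hsB hBA hx
    have hsS := (R.suppFin_spec hS s hs).2
    have hs' : ∀ q ∉ supp d, (Pi.single (s : ℕ) (f s) : ℕ → F) q = 0 :=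
      fun q hq => Pi.single_eq_of_ne (fun (h : q = (s : ℕ)) => hq (h ▸ hsS)) _
    have hφ' : ∀ w : F, ∀ q ∉ supp d, (Pi.single φ w : ℕ → F) q = 0 :=
      fun w q hq => Pi.single_eq_of_ne (fun (h : q = φ) => hq (h ▸ hfS)) _
    have hB0 : ∀ q ∉ supp d, vec B (fun r => f r) q = 0 :=
      R.vec_zero_of_notMem fun r hr => (R.suppFin_spec hS r (hBA hr)).2
    have hins : vec (insert s B) (fun r => f r) = (Pi.single (s : ℕ) (f s) : ℕ → F) + vec B (fun r => f r) := by
      unfold vec; rw [Finset.sum_insert hsB]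
    have hadd0 : ∀ q ∉ supp d, (vec B (fun r => f r) + (Pi.single φ (c * vec B (fun r => f r) p) : ℕ → F)) q = 0 :=
      fun q hq => by rw [Pi.add_apply, hB0 q hq, hφ' _ q hq, add_zero]
    rw [← conj_mul, hx, hins]
    by_cases hsp : (s : ℕ) = p
    · rw [hsp] at hs' ⊢
      rw [hkey, ← R.PV_single hp.2 hp.1, ← R.PV_single hφ.2 hφ.1, ← R.PV_add hQ hs' (hφ' _),
        ← R.PV_add hQ (fun q hq => by rw [Pi.add_apply, hs' q hq, hφ' _ q hq, add_zero]) hadd0]
      congr 1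
      rw [Pi.add_apply, Pi.single_eq_same, mul_add, Pi.single_add]
      abel
    · rw [(hcom s hsS hsp (f s)).eq, mul_inv_cancel_right, ← R.PV_single (R.suppFin_spec hS s hs).1 s.2,
        ← R.PV_add hQ hs' hadd0, Pi.add_apply, Pi.single_eq_of_ne (Ne.symm hsp), zero_add, add_assoc]

theorem conj_prodL (hS : d.chkS D = true) (hEx : d.chkEx D X = true) (a : ℕ → F) {f : ℕ → F}
    (hf : ∀ r ∉ supp d, f r = 0) : ∀ L : List (ℕ × ℕ × ℕ), (∀ x ∈ L, x ∈ d.Ex) → (L.map (·.2.2)).Nodup →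
    ∃ g : ℕ → F, (∀ r ∉ supp d, g r = 0) ∧ (∀ t ∈ d.T, g t = f t) ∧
      R.prodL (L.map (·.1)) a * R.PV f * (R.prodL (L.map (·.1)) a)⁻¹ = R.PV g ∧
      (∀ x ∈ L, g x.2.2 = f x.2.2 + a x.1 * f x.2.1) ∧ ∀ r, r ∉ L.map (·.2.2) → g r = f r
  | [], _, _ => ⟨f, hf, fun _ _ => rfl, by simp [prodL], by simp, fun _ _ => rfl⟩
  | x :: L, hL, hnd => by
    rw [List.map_cons, List.nodup_cons] at hnd
    obtain ⟨g, hg, hgT, hge, hgx, hgo⟩ := conj_prodL hS hEx a hf L (fun y hy => hL y (List.mem_cons_of_mem _ hy)) hnd.2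
    have hxe := hL x List.mem_cons_self
    obtain ⟨-, -, hpT, hfS, hfT, -⟩ := R.ex_props hEx hxe
    refine ⟨g + Pi.single x.2.2 (a x.1 * g x.2.1), fun r hr => ?_, fun t ht => ?_, ?_, fun y hy => ?_, fun r hr => ?_⟩
    · rw [Pi.add_apply, hg r hr, Pi.single_eq_of_ne (fun (h : r = x.2.2) => hr (h ▸ hfS)), add_zero]
    · rw [Pi.add_apply, hgT t ht, Pi.single_eq_of_ne (fun (h : t = x.2.2) => hfT (h ▸ ht)), add_zero]
    · rw [← R.conj_ex hS hEx hxe (a x.1) hg, ← hge]
      simp only [prodL, List.map_cons, List.prod_cons]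
      group
    · rcases List.mem_cons.1 hy with rfl | hy
      · rw [Pi.add_apply, hgo _ hnd.1, Pi.single_eq_same, hgT _ hpT]
      · rw [Pi.add_apply, hgx y hy, Pi.single_eq_of_ne (fun (h : y.2.2 = x.2.2) => hnd.1
          (h ▸ List.mem_map.2 ⟨y, hy, rfl⟩)), add_zero]
    · simp only [List.map_cons, List.mem_cons, not_or] at hr
      rw [Pi.add_apply, hgo r hr.2, Pi.single_eq_of_ne hr.1, add_zero]

/-- a torus element fixing the element centralises through `K` -/
theorem HS_fix_mem (hG : d.chkGen D = true) (hMs : d.chkMs D X = true) (hS : d.chkS D = true)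
    (hInv : d.chkInv D = true) (hK : ∀ j : Fin D.rank, (j : ℕ) ∈ d.K → ∀ c, R.he (D.simple j) c ∈ R.US (csSet d D))
    {h : G} (hh : h ∈ R.HS) {a : Fin D.nroots → F} (ha : R.IsMon h 1 a)
    (h1 : ∀ t : Fin D.nroots, (t : ℕ) ∈ d.T → a t = 1) : h ∈ R.US (csSet d D) := by
  classical
  obtain ⟨c, hc⟩ := R.torusHom_surjective ⟨h, hh⟩
  have hmon : ∀ s : Finset (Fin D.rank), R.IsMon ((R.torusHom (∏ i ∈ s, Pi.mulSingle i (c i)) : R.HS) : G) 1
      fun r => ((∏ i ∈ s, c i ^ D.cartan i r : Fˣ) : F) := by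
    intro s
    induction s using Finset.induction_on with
    | empty => simpa using R.isMon_one
    | insert i s hi ih =>
      have := R.isMon_mul (R.isMon_he_simple i (c i).ne_zero) ih
      rw [mul_one] at this
      rw [Finset.prod_insert hi, map_mul, R.torusHom_single, Subgroup.coe_mul]
      refine (congrArg (R.IsMon _ 1) (funext fun r => ?_)).mpr this
      simp [Finset.prod_insert hi]
  have hfull := hmon Finset.univ
  rw [Finset.univ_prod_mulSingle c, hc] at hfull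
  have hval : ∀ t : Fin D.nroots, (t : ℕ) ∈ d.T → (∏ i, c i ^ D.cartan i t : Fˣ) = 1 := by
    intro t ht
    refine Units.ext (R.xe_inj_param (r := t) ?_)
    have e1 := (hfull t).2.2.2 1
    have e2 := (ha t).2.2.2 1
    rw [mul_one, Equiv.Perm.one_apply] at e1 e2
    rw [Units.val_one, ← e1, e2, h1 t ht]
  have hout : ∀ k : Fin D.rank, (k : ℕ) ∉ d.K → c k = 1 := by
    intro k hk
    have hI := hInv
    simp only [CentData.chkInv, Bool.and_eq_true, List.all_eq_true, List.mem_range, Bool.or_eq_true,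
      List.any_eq_true, nat_beq_iff, decide_eq_true_iff] at hI
    obtain ⟨x, hx, hxk⟩ := (hI.1 k k.2).resolve_left fun h => hk (has_iff.1 h)
    have hexp : ∀ i : Fin D.rank, ((d.T.zip x.2).map fun p => D.cartan i p.1 * p.2).sum = if i = k then 1 else 0 := by
      intro i
      by_cases hi : (i : ℕ) ∈ d.K
      · rw [if_neg (fun e => hk (by rw [← e]; exact hi))]
        refine List.sum_eq_zero fun y hy => ?_
        obtain ⟨p, hp, rfl⟩ := List.mem_map.1 hy
        rw [(CentData.K_cartan hMs hi (List.of_mem_zip hp).1).1, zero_mul]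
      · rw [(hI.2 x hx i i.2).resolve_left fun h => hi (has_iff.1 h)]
        simp [hxk, Fin.ext_iff]
    have h2 := prod_zpow_zip c (fun i t => D.cartan i t) (d.T.zip x.2)
    simp only [hexp] at h2
    rw [List.prod_eq_one, Finset.prod_eq_single k] at h2
    · simpa using h2
    · intro i _ hi; rw [if_neg hi, zpow_zero]
    · simp
    · intro y hy
      obtain ⟨p, hp, rfl⟩ := List.mem_map.1 hy
      have hpT := (List.of_mem_zip hp).1
      have := hval ⟨p.1, (CentData.S_pos hS (CentData.T_sub hS hpT)).1⟩ hpT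
      rw [this, one_zpow]
  have hmem : c ∈ ((R.US (csSet d D)).subgroupOf R.HS).comap R.torusHom := by
    rw [← Finset.univ_prod_mulSingle c]
    refine Subgroup.prod_mem _ fun i _ => Subgroup.mem_comap.2 (Subgroup.mem_subgroupOf.2 ?_)
    rw [R.torusHom_single]
    by_cases hi : (i : ℕ) ∈ d.K
    · exact hK i hi _
    · rw [hout i hi, map_one]; exact one_mem _
  have := Subgroup.mem_subgroupOf.1 (Subgroup.mem_comap.1 hmem)
  rwa [hc] at this

/-- the centralizer of a certified product of root elements in characteristic two -/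
theorem centralizer_PV (hD : Desc D X) (hchk : d.chk D X = true) :
    Subgroup.centralizer {R.PV (oneT d F)} = R.US (csSet d D) := by
  obtain ⟨hS, hG, hC, hMs, hEx, hInv⟩ := CentData.chk_split hchk
  obtain ⟨K, hKdef⟩ : ∃ K : Set ℕ, K = {j | j ∈ d.K} := ⟨_, rfl⟩
  refine le_antisymm (fun g hg => ?_) (R.CS_le hS hG)
  have hexrad : ∀ r : Fin D.nroots, (r : ℕ) ∈ d.exRoots → r ∈ radSet D X K := by
    intro r hr
    obtain ⟨_, h⟩ := R.exists_exRoot hEx hr
    exact hKdef ▸ h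
  have hsimple : ∀ j : Fin D.rank, (j : ℕ) ∈ d.K → ∀ t, R.xe (D.simple j) t ∈ R.US (csSet d D) ∧
      R.xe (D.neg (D.simple j)) t ∈ R.US (csSet d D) := by
    intro j hj t
    refine ⟨R.xe_mem_US (r := R.sroot j) (Or.inl ⟨R.sroot_pos j, fun h => ?_⟩) t,
      R.xe_mem_US (r := R.negF (R.sroot j)) (Or.inr ⟨j, hj, rfl⟩) t⟩
    exact (hexrad (R.sroot j) h).2 (R.sroot_mem_sub K (hKdef ▸ hj))
  have hne : ∀ j : Fin D.rank, (j : ℕ) ∈ d.K → ∀ c, R.ne (D.simple j) c ∈ R.US (csSet d D) := fun j hj c =>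
    mul_mem (mul_mem (hsimple j hj _).1 (hsimple j hj _).2) (hsimple j hj _).1
  have hhe : ∀ j : Fin D.rank, (j : ℕ) ∈ d.K → ∀ c, R.he (D.simple j) c ∈ R.US (csSet d D) := fun j hj c =>
    mul_mem (hne j hj _) (hne j hj _)
  have hsub : R.US (subSet D X K) ≤ R.US (csSet d D) := by
    refine R.US_le fun r hr t => ?_
    by_cases hp : half D ≤ (r : ℕ)
    · exact R.xe_mem_US (Or.inl ⟨hp, fun h => (hexrad r h).2 hr⟩) t
    · obtain ⟨g', hg', i, hiK, hi⟩ := R.exists_conj_sub K hD (R.negF r) ((R.cert.half_le_neg_iff r.2).2 (by omega))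
        (R.negF_mem_sub K hr)
      have hiK' : (i : ℕ) ∈ d.K := by rw [hKdef] at hiK; exact hiK
      obtain ⟨b, hb⟩ := R.exists_isMon g'
      obtain ⟨a, ha⟩ := R.exists_isMon (g' * R.nMon i)
      have hσ : R.monPerm (g' * R.nMon i) (R.sroot i) = r := by
        rw [map_mul, Equiv.Perm.mul_apply, R.monPerm_nMon, R.wperm_sroot, (hb (R.sroot i)).2.2.1, hi, R.negF_negF]
      have hgC : ((g' * R.nMon i : R.Mon) : G) ∈ R.US (csSet d D) := by
        refine mul_mem ?_ (hne i hiK' 1)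
        refine ((Subgroup.closure_le _).2 ?_ : R.NJ K ≤ _) hg'
        rintro _ ⟨k, hk, rfl⟩
        exact hne k (by rw [hKdef] at hk; exact hk) 1
      obtain ⟨h1, -, -, h4⟩ := ha (R.sroot i)
      have h5 := h4 ((a (R.sroot i))⁻¹ * t)
      rw [mul_inv_cancel_left₀ h1, hσ] at h5
      rw [← h5]
      exact mul_mem (mul_mem hgC (hsimple i hiK' _).1) (inv_mem hgC)
  have hgP := R.cent_le_PJ hS hG hC hMs hg
  rw [← hKdef, ← R.UR_sup_LJ K hD] at hgP
  have hLJ : R.LJ K ≤ Subgroup.normalizer (R.UR K : Set G) :=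
    le_trans (le_trans le_sup_right (R.UR_sup_LJ K hD).le) (R.PJ_le_normalizer K hD)
  obtain ⟨q, hq, l, hl, rfl⟩ := exists_mul_of_mem_sup hLJ hgP
  obtain ⟨c, hc, h, hh, hl'⟩ := exists_mul_of_mem_sup (R.HS_le_normalizer_US (subSet D X K))
    (show l⁻¹ ∈ R.US (subSet D X K) ⊔ R.HS from sup_comm (R.HS) _ ▸ inv_mem hl)
  obtain ⟨a, z, hz, rfl⟩ := R.exists_rad_decomp hEx (hKdef ▸ hq)
  obtain rfl : l = h⁻¹ * c⁻¹ := by rw [← inv_inv l, hl', mul_inv_rev]
  have hz' : h * z * h⁻¹ ∈ R.US (zSet d D X) :=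
    (Subgroup.mem_normalizer_iff.1 (R.HS_le_normalizer_US _ hh) z).1 hz
  have hZC : R.US (zSet d D X) ≤ R.US (csSet d D) := R.US_mono fun r hr => Or.inl ⟨hr.1.1, hr.2⟩
  have hcC := hsub hc
  have hrest : h * z * h⁻¹ * c⁻¹ ∈ R.US (csSet d D) := mul_mem (hZC hz') (inv_mem hcC)
  have heq : R.prodL d.exRoots a * z * (h⁻¹ * c⁻¹) = R.prodL d.exRoots a * h⁻¹ * (h * z * h⁻¹ * c⁻¹) := by group
  rw [heq] at hg ⊢
  have heh : R.prodL d.exRoots a * h⁻¹ ∈ Subgroup.centralizer {R.PV (oneT d F)} := by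
    have := mul_mem hg (inv_mem (R.CS_le hS hG hrest))
    rwa [mul_inv_cancel_right] at this
  obtain ⟨b, hb⟩ := R.isMon_of_mem_HS (inv_mem hh)
  obtain ⟨lam, hlam⟩ : ∃ lam, lam = vec (suppFin d D) fun r => b r * oneT d F r := ⟨_, rfl⟩
  have hlamS : ∀ r ∉ supp d, lam r = 0 := by
    rw [hlam]; exact R.vec_zero_of_notMem fun r hr => (R.suppFin_spec hS r hr).2
  have hnd : (d.Ex.map (·.2.2)).Nodup := by
    have := hEx
    simp only [CentData.chkEx, Bool.and_eq_true, decide_eq_true_iff] at this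
    exact this.1.1.2
  obtain ⟨gv, hgvS, hgvT, hgve, hgvx, -⟩ := R.conj_prodL hS hEx a hlamS d.Ex (fun _ h => h) hnd
  have hfinal : R.PV gv = R.PV (oneT d F) := by
    rw [← hgve, hlam, ← R.conj_HS hS hb (R.oneT_supp hS)]
    have := Subgroup.mem_centralizer_singleton_iff.1 heh
    show R.prodL d.exRoots a * (h⁻¹ * R.PV (oneT d F) * h⁻¹⁻¹) * (R.prodL d.exRoots a)⁻¹ = _
    calc R.prodL d.exRoots a * (h⁻¹ * R.PV (oneT d F) * h⁻¹⁻¹) * (R.prodL d.exRoots a)⁻¹
        = R.prodL d.exRoots a * h⁻¹ * R.PV (oneT d F) * (R.prodL d.exRoots a * h⁻¹)⁻¹ := by group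
      _ = R.PV (oneT d F) := by rw [this, mul_inv_cancel_right]
  have hb1 : ∀ t : Fin D.nroots, (t : ℕ) ∈ d.T → b t = 1 := by
    intro t ht
    have h1 := R.PV_inj hfinal (CentData.S_pos hS (CentData.T_sub hS ht)).2 t.2
    rw [hgvT _ ht, hlam, R.vec_apply, if_pos (by simp [suppFin, CentData.T_sub hS ht]), oneT, if_pos ht, mul_one] at h1
    exact h1
  have hhC : h⁻¹ ∈ R.US (csSet d D) := R.HS_fix_mem hG hMs hS hInv hhe (inv_mem hh) hb hb1
  have ha0 : ∀ e ∈ d.exRoots, a e = 0 := by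
    intro e he
    obtain ⟨x, hx, rfl⟩ := List.mem_map.1 he
    obtain ⟨-, -, hpT, hfS, hfT, -⟩ := R.ex_props hEx hx
    have hφ := CentData.S_pos hS hfS
    have h1 := R.PV_inj hfinal hφ.2 hφ.1
    have hp := CentData.S_pos hS (CentData.T_sub hS hpT)
    have hlp : lam x.2.1 = 1 := by
      rw [hlam, show vec (suppFin d D) (fun r => b r * oneT d F r) x.2.1 = _ from
        R.vec_apply (suppFin d D) _ ⟨x.2.1, hp.1⟩, if_pos (by simp [suppFin, CentData.T_sub hS hpT]),
        hb1 ⟨x.2.1, hp.1⟩ hpT, one_mul, oneT, if_pos hpT]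
    have hlf : lam x.2.2 = 0 := by
      rw [hlam, show vec (suppFin d D) (fun r => b r * oneT d F r) x.2.2 = _ from
        R.vec_apply (suppFin d D) _ ⟨x.2.2, hφ.1⟩, if_pos (by simp [suppFin, hfS]), oneT, if_neg hfT, mul_zero]
    rw [hgvx x hx, hlp, hlf, zero_add, mul_one, oneT, if_neg hfT] at h1
    exact h1
  have hP1 : R.prodL d.exRoots a = 1 := by
    refine List.prod_eq_one fun y hy => ?_
    obtain ⟨e, he, rfl⟩ := List.mem_map.1 hy
    rw [ha0 e he, R.xe_zero]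
  rw [hP1, one_mul]
  exact mul_mem hhC hrest

end Rel

end CfsgLib.Lie.Chev
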