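/-
The centralizers of the certified involutions of the Chevalley groups in characteristic two.
-/
import Cfsg.Agent.Lib.Lie.CharTwoCent.Main
import Cfsg.Agent.Lib.Lie.Rel.ParabolicFacts

set_option autoImplicit false

namespace CfsgLib.Lie.Chev

open Cfsg.Lie (ChevalleyDatum)
open Rel

variable {D : ChevalleyDatum} {X : Aux} (C : Cert D X) (F : Type*) [Field F] [CharP F 2] {d : CentData}

/-- the roots of the centralising root groups, as indices -/
def CentData.csList (d : CentData) (D : ChevalleyDatum) : List ℕ :=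
  (List.range D.nroots).filter fun r =>
    (Nat.ble (half D) r && !CentData.has d.exRoots r) || CentData.has (d.K.map fun j => D.neg (D.simple j)) r

theorem mem_csList (r : ℕ) : r ∈ d.csList D ↔ ∃ h : r < D.nroots, (⟨r, h⟩ : Fin D.nroots) ∈ csSet d D := by
  simp only [CentData.csList, csSet, List.mem_filter, List.mem_range, Bool.or_eq_true, Bool.and_eq_true,
    nat_ble_iff, CentData.has_iff, List.mem_map, Bool.not_eq_true', Set.mem_setOf_eq]
  constructor
  · rintro ⟨h, ⟨h1, h2⟩ | ⟨j, hj, e⟩⟩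
    · exact ⟨h, Or.inl ⟨h1, fun e => by rw [CentData.has_iff.2 e] at h2; cases h2⟩⟩
    · exact ⟨h, Or.inr ⟨j, hj, e.symm⟩⟩
  · rintro ⟨h, ⟨h1, h2⟩ | ⟨j, hj, e⟩⟩
    · exact ⟨h, Or.inl ⟨h1, Bool.eq_false_iff.2 fun e => h2 (CentData.has_iff.1 e)⟩⟩
    · exact ⟨h, Or.inr ⟨j, hj, e.symm⟩⟩

/-- the element `∏ x_t(1)` of the certificate -/
def centElt (d : CentData) : GL D.Idx F := (((chevRel C F).PV (oneT d F) : ↥(D.group F)) : GL D.Idx F)

theorem group_inf_centralizer (hD : Desc D X) (hchk : d.chk D X = true) :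
    D.group F ⊓ Subgroup.centralizer {centElt C F d} =
      Subgroup.closure {g : GL D.Idx F | ∃ (r : ℕ) (c : F), r ∈ d.csList D ∧ (g : Matrix D.Idx D.Idx F) = D.x F r c} := by
  rw [← map_US C F (csSet d D) (fun r => r ∈ d.csList D) (mem_csList (D := D)),
    ← (chevRel C F).centralizer_PV hD hchk]
  ext g
  simp only [Subgroup.mem_inf, Subgroup.mem_centralizer_singleton_iff, Subgroup.mem_map, centElt]
  constructor
  · rintro ⟨hg, e⟩; exact ⟨⟨g, hg⟩, Subtype.ext e, rfl⟩
  · rintro ⟨⟨g, hg⟩, e, rfl⟩; exact ⟨hg, congrArg Subtype.val e⟩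

theorem centElt_one {a : ℕ} (hT : d.T = [a]) (ha : half D ≤ a) (ha' : a < D.nroots) (g : GL D.Idx F)
    (hg : (g : Matrix D.Idx D.Idx F) = D.x F a 1) : g = centElt C F d := by
  have e : oneT d F = Pi.single a 1 := by
    funext r
    by_cases h : r = a
    · subst h; simp [oneT, hT]
    · simp [oneT, hT, h, Pi.single_eq_of_ne h]
  refine Units.ext ?_
  rw [hg, centElt, e, (chevRel C F).PV_single ha ha']
  rfl

theorem centElt_two {a b : ℕ} (hT : d.T = [a, b]) (hS : d.chkS D = true) (hab : a ≠ b) (g : GL D.Idx F)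
    (hg : (g : Matrix D.Idx D.Idx F) = D.x F a 1 * D.x F b 1) : g = centElt C F d := by
  have e : oneT d F = Pi.single a 1 + Pi.single b 1 := by
    funext r
    by_cases h : r = a
    · subst h; simp [oneT, hT, Pi.single_eq_of_ne hab]
    · by_cases h' : r = b
      · subst h'; simp [oneT, hT, Pi.single_eq_of_ne h]
      · simp [oneT, hT, h, h', Pi.single_eq_of_ne h, Pi.single_eq_of_ne h']
  have ha := CentData.T_sub hS (show a ∈ d.T by simp [hT])
  have hb := CentData.T_sub hS (show b ∈ d.T by simp [hT])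
  refine Units.ext ?_
  rw [hg, centElt, e, (chevRel C F).PV_add ((chevRel C F).comOn_supp hS)
      (fun r hr => Pi.single_eq_of_ne (fun (e : r = a) => hr (e ▸ ha)) _)
      (fun r hr => Pi.single_eq_of_ne (fun (e : r = b) => hr (e ▸ hb)) _),
    (chevRel C F).PV_single (CentData.S_pos hS ha).2 (CentData.S_pos hS ha).1,
    (chevRel C F).PV_single (CentData.S_pos hS hb).2 (CentData.S_pos hS hb).1]
  rfl

include C in
theorem isPosRoot_iff_mem (r : ℕ) : D.IsPosRoot r ↔ r ∈ List.range' (half D) (half D) := by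
  rw [isPosRoot_iff C, List.mem_range'_1]
  have := C.nroots_eq
  constructor
  · rintro ⟨h, hp⟩; omega
  · rintro ⟨h1, h2⟩; exact ⟨by omega, h1⟩

/-- the subgroup generated by the root elements of a list of roots -/
def xclos (D : ChevalleyDatum) (F : Type*) [Field F] (L : List ℕ) : Subgroup (GL D.Idx F) :=
  Subgroup.closure {g : GL D.Idx F | ∃ (r : ℕ) (c : F), r ∈ L ∧ (g : Matrix D.Idx D.Idx F) = D.x F r c}

theorem xclos_congr {L L' : List ℕ} (h : ∀ r, r ∈ L ↔ r ∈ L') : xclos D F L = xclos D F L' := by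
  simp only [xclos, h]

theorem xclos_sup (L L' : List ℕ) : xclos D F L ⊔ xclos D F L' = xclos D F (L ++ L') := by
  rw [xclos, xclos, xclos, ← Subgroup.closure_union]
  congr 1
  ext g
  simp only [Set.mem_union, Set.mem_setOf_eq, List.mem_append]
  constructor
  · rintro (⟨r, c, h, e⟩ | ⟨r, c, h, e⟩)
    · exact ⟨r, c, Or.inl h, e⟩
    · exact ⟨r, c, Or.inr h, e⟩
  · rintro ⟨r, c, h | h, e⟩
    · exact Or.inl ⟨r, c, h, e⟩
    · exact Or.inr ⟨r, c, h, e⟩

theorem rootSubgroup_xclos (s : ℕ) : D.rootSubgroup F s = xclos D F [s] := by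
  unfold ChevalleyDatum.rootSubgroup xclos
  congr 1
  ext g
  simp only [Set.mem_setOf_eq, List.mem_singleton]
  exact ⟨fun ⟨c, e⟩ => ⟨s, c, rfl, e⟩, fun ⟨_, c, h, e⟩ => ⟨c, h ▸ e⟩⟩

include C in
theorem posUnipotent_xclos : D.posUnipotent F = xclos D F (List.range' (half D) (half D)) := by
  unfold ChevalleyDatum.posUnipotent xclos
  simp only [isPosRoot_iff_mem C]

theorem list_mem_congr {L L' : List ℕ} (h : L.all (fun r => decide (r ∈ L')) && L'.all (fun r => decide (r ∈ L)) = true)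
    (r : ℕ) : r ∈ L ↔ r ∈ L' := by
  simp only [Bool.and_eq_true, List.all_eq_true, decide_eq_true_iff] at h
  exact ⟨h.1 r, h.2 r⟩

end CfsgLib.Lie.Chev
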