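/-
The two classes of involutions of `G₂(q)`, `q` even.
-/
import Cfsg.Agent.Lib.Lie.CharTwoCent.Chev
import Cfsg.Agent.Lib.Lie.WeakClosed.ParabolicCentralizer

set_option autoImplicit false

namespace CfsgLib.Lie.Chev.Rel

open Cfsg.Lie (chevG2)
open scoped commutatorElement

theorem three_eq_one {F : Type*} [Field F] [CharP F 2] : (3 : F) = 1 := by
  have := cast_odd (F := F) (C := 3) (by decide)
  exact_mod_cast this

variable {F : Type*} [Field F] [CharP F 2] {G : Type*} [Group G] (R : Rel chevG2 auxG2 F G)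
include R

private theorem rel_of {r s : ℕ} {L : List (ℕ × ℤ × ℕ × ℕ)} (h : decide (r < chevG2.nroots ∧ s < chevG2.nroots ∧
      s ≠ r ∧ s ≠ chevG2.neg r ∧ (chevG2.commTerms r s).filter (fun c => !CentData.evenC c) = L) = true) (t u : F) :
    R.xe s u * R.xe r t = R.xe r t * R.xe s u *
      (L.map fun c => R.xe c.1 ((c.2.1 : F) * (-t) ^ c.2.2.1 * u ^ c.2.2.2)).prod := by
  obtain ⟨h1, h2, h3, h4, h5⟩ := of_decide_eq_true h
  rw [R.xe_comm_odd h1 h2 h3 h4 t u, h5]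

/-- `x_9(d) x_10(e) x_11(f)` -/
def eE (d e f : F) : G := R.xe 9 d * R.xe 10 e * R.xe 11 f

theorem G2_self (r : ℕ) (t : F) : R.xe r t * R.xe r t = 1 := by
  rw [R.xe_add', CharTwo.add_self_eq_zero, R.xe_zero]

theorem G2_inv (r : ℕ) (t : F) : (R.xe r t)⁻¹ = R.xe r t :=
  inv_eq_of_mul_eq_one_right (R.G2_self r t)

theorem G2_commute {r s : ℕ} (h : decide (r < chevG2.nroots ∧ s < chevG2.nroots ∧
      (s = r ∨ (s ≠ chevG2.neg r ∧ ((chevG2.commTerms r s).all CentData.evenC) = true))) = true) (t u : F) :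
    Commute (R.xe r t) (R.xe s u) := by
  obtain ⟨h1, h2, h3⟩ := of_decide_eq_true h
  exact R.commute_of_even h1 h2 (h3.imp id fun h => ⟨h.1, List.all_eq_true.1 h.2⟩) t u

theorem eE_mul (d e f d' e' f' : F) : R.eE d e f * R.eE d' e' f' = R.eE (d + d') (e + e') (f + f') := by
  have h1 : Commute (R.xe 10 e) (R.xe 9 d') := R.G2_commute (by decide +kernel) _ _
  have h2 : Commute (R.xe 11 f) (R.xe 9 d') := R.G2_commute (by decide +kernel) _ _
  have h3 : Commute (R.xe 11 f) (R.xe 10 e') := R.G2_commute (by decide +kernel) _ _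
  simp only [eE, ← R.xe_add']
  calc R.xe 9 d * R.xe 10 e * R.xe 11 f * (R.xe 9 d' * R.xe 10 e' * R.xe 11 f')
      = R.xe 9 d * R.xe 10 e * (R.xe 11 f * R.xe 9 d') * R.xe 10 e' * R.xe 11 f' := by group
    _ = R.xe 9 d * (R.xe 10 e * R.xe 9 d') * (R.xe 11 f * R.xe 10 e') * R.xe 11 f' := by rw [h2.eq]; group
    _ = _ := by rw [h1.eq, h3.eq]; group

theorem eE_zero : R.eE 0 0 0 = 1 := by simp [eE, R.xe_zero]

theorem eE_nine (d : F) : R.xe 9 d = R.eE d 0 0 := by simp [eE, R.xe_zero]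
theorem eE_ten (e : F) : R.xe 10 e = R.eE 0 e 0 := by simp [eE, R.xe_zero]
theorem eE_eleven (f : F) : R.xe 11 f = R.eE 0 0 f := by simp [eE, R.xe_zero]

/-- conjugation by `x_r(s)` of a product of two factors -/
theorem G2_conj_mul (r : ℕ) (s : F) (a b : G) :
    R.xe r s * (a * b) * R.xe r s = R.xe r s * a * R.xe r s * (R.xe r s * b * R.xe r s) := by
  calc R.xe r s * (a * b) * R.xe r s = R.xe r s * a * 1 * b * R.xe r s := by group
    _ = R.xe r s * a * (R.xe r s * R.xe r s) * b * R.xe r s := by rw [R.G2_self]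
    _ = _ := by group

theorem G2_conj_fix {r t : ℕ} (h : decide (r < chevG2.nroots ∧ t < chevG2.nroots ∧
      (t = r ∨ (t ≠ chevG2.neg r ∧ ((chevG2.commTerms r t).all CentData.evenC) = true))) = true) (s u : F) :
    R.xe r s * R.xe t u * R.xe r s = R.xe t u := by
  rw [(R.G2_commute h s u).eq, mul_assoc, R.G2_self, mul_one]

/-- the conjugate from the commutator formula, conjugating by the later factor -/
theorem G2_conj_right {r s : ℕ} {W : G} {t u : F} (h : R.xe s u * R.xe r t = R.xe r t * R.xe s u * W) :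
    R.xe r t * R.xe s u * R.xe r t = R.xe s u * W := by
  rw [mul_assoc, h]
  simp only [← mul_assoc, R.G2_self, one_mul]

/-- the conjugate from the commutator formula, conjugating by the earlier factor -/
theorem G2_conj_left {r s : ℕ} {W : G} {t u : F} (h : R.xe s u * R.xe r t = R.xe r t * R.xe s u * W) :
    R.xe s u * R.xe r t * R.xe s u = R.xe r t * (R.xe s u * W * R.xe s u) := by
  rw [h]; group

theorem c79 (s d : F) : R.xe 7 s * R.xe 9 d * R.xe 7 s = R.xe 9 d * R.xe 10 (s * d) := by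
  have h := R.rel_of (r := 7) (s := 9) (L := [(10, 3, 1, 1)]) (by decide +kernel) s d
  rw [R.G2_conj_right h]
  simp [three_eq_one, CharTwo.neg_eq]

theorem c710 (s e : F) : R.xe 7 s * R.xe 10 e * R.xe 7 s = R.xe 10 e := R.G2_conj_fix (by decide +kernel) s e
theorem c711 (s e : F) : R.xe 7 s * R.xe 11 e * R.xe 7 s = R.xe 11 e := R.G2_conj_fix (by decide +kernel) s e

theorem c7E (s d e f : F) : R.xe 7 s * R.eE d e f * R.xe 7 s = R.eE d (e + s * d) f := by
  rw [eE, R.G2_conj_mul, R.G2_conj_mul, c79, c710, c711, eE, add_comm e, ← R.xe_add']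
  group

theorem c78 (s c : F) : R.xe 7 s * R.xe 8 c * R.xe 7 s = R.xe 8 c * R.eE 0 (s ^ 2 * c) (s * c ^ 2) := by
  have h := R.rel_of (r := 7) (s := 8) (L := [(10, -3, 2, 1), (11, 3, 1, 2)]) (by decide +kernel) s c
  rw [R.G2_conj_right h]
  simp [eE, R.xe_zero, three_eq_one, CharTwo.neg_eq]

theorem c67 (s b : F) : R.xe 6 s * R.xe 7 b * R.xe 6 s =
    R.xe 7 b * (R.xe 8 (s * b) * R.eE (s * b ^ 2) (s * b ^ 3) 0) := by
  have h := R.rel_of (r := 6) (s := 7) (L := [(8, 1, 1, 1), (9, 1, 1, 2), (10, -1, 1, 3)]) (by decide +kernel) s b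
  rw [R.G2_conj_right h]
  simp [eE, R.xe_zero, CharTwo.neg_eq, mul_assoc]

theorem c610 (s e : F) : R.xe 6 s * R.xe 10 e * R.xe 6 s = R.xe 10 e * R.xe 11 (s * e) := by
  have h := R.rel_of (r := 6) (s := 10) (L := [(11, 1, 1, 1)]) (by decide +kernel) s e
  rw [R.G2_conj_right h]
  simp [CharTwo.neg_eq]

theorem c6E (s d e f : F) : R.xe 6 s * R.eE d e f * R.xe 6 s = R.eE d e (f + s * e) := by
  rw [eE, R.G2_conj_mul, R.G2_conj_mul, c610, R.G2_conj_fix (by decide +kernel), R.G2_conj_fix (by decide +kernel),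
    eE, add_comm f, ← R.xe_add']
  group

theorem c89 (s d : F) : R.xe 8 s * R.xe 9 d * R.xe 8 s = R.xe 9 d * R.xe 11 (s * d) := by
  have h := R.rel_of (r := 8) (s := 9) (L := [(11, 3, 1, 1)]) (by decide +kernel) s d
  rw [R.G2_conj_right h]
  simp [three_eq_one, CharTwo.neg_eq]

theorem c8E (s d e f : F) : R.xe 8 s * R.eE d e f * R.xe 8 s = R.eE d e (f + s * d) := by
  rw [eE, R.G2_conj_mul, R.G2_conj_mul, c89, R.G2_conj_fix (by decide +kernel), R.G2_conj_fix (by decide +kernel),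
    eE, add_comm f, ← R.xe_add']
  have hc : Commute (R.xe 11 (s * d)) (R.xe 10 e) := R.G2_commute (by decide +kernel) _ _
  simp only [mul_assoc]
  rw [← mul_assoc (R.xe 11 (s * d)), hc.eq]
  group

theorem c87 (s b : F) : R.xe 8 s * R.xe 7 b * R.xe 8 s = R.xe 7 b * R.eE 0 (b ^ 2 * s) (b * s ^ 2) := by
  have h := R.rel_of (r := 7) (s := 8) (L := [(10, -3, 2, 1), (11, 3, 1, 2)]) (by decide +kernel) b s
  rw [R.G2_conj_left h]
  have hW : (([(10, -3, 2, 1), (11, 3, 1, 2)] : List (ℕ × ℤ × ℕ × ℕ)).map fun c =>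
      R.xe c.1 ((c.2.1 : F) * (-b) ^ c.2.2.1 * s ^ c.2.2.2)).prod = R.eE 0 (b ^ 2 * s) (b * s ^ 2) := by
    simp [eE, R.xe_zero, three_eq_one, CharTwo.neg_eq]
  rw [hW, R.c8E]
  simp

theorem c97 (s b : F) : R.xe 9 s * R.xe 7 b * R.xe 9 s = R.xe 7 b * R.eE 0 (s * b) 0 := by
  have h := R.rel_of (r := 7) (s := 9) (L := [(10, 3, 1, 1)]) (by decide +kernel) b s
  rw [R.G2_conj_left h]
  have hc : R.xe 9 s * R.xe 10 (b * s) * R.xe 9 s = R.xe 10 (b * s) := R.G2_conj_fix (by decide +kernel) _ _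
  simp [eE, R.xe_zero, three_eq_one, CharTwo.neg_eq, hc, mul_comm s b]

theorem c76 (s a : F) : ∃ d e f, R.xe 7 s * R.xe 6 a * R.xe 7 s = R.xe 6 a * (R.xe 8 (a * s) * R.eE d e f) := by
  have h := R.rel_of (r := 6) (s := 7) (L := [(8, 1, 1, 1), (9, 1, 1, 2), (10, -1, 1, 3)]) (by decide +kernel) a s
  rw [R.G2_conj_left h]
  have hW : (([(8, 1, 1, 1), (9, 1, 1, 2), (10, -1, 1, 3)] : List (ℕ × ℤ × ℕ × ℕ)).map fun c =>
      R.xe c.1 ((c.2.1 : F) * (-a) ^ c.2.2.1 * s ^ c.2.2.2)).prod =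
        R.xe 8 (a * s) * R.eE (a * s ^ 2) (a * s ^ 3) 0 := by
    simp [eE, R.xe_zero, CharTwo.neg_eq, mul_assoc]
  rw [hW, R.G2_conj_mul, R.c78, R.c7E, mul_assoc (R.xe 8 (a * s)), R.eE_mul]
  exact ⟨_, _, _, rfl⟩

theorem G2_commute_eE {r : ℕ} (h9 : decide (r < chevG2.nroots ∧ 9 < chevG2.nroots ∧
      (9 = r ∨ (9 ≠ chevG2.neg r ∧ ((chevG2.commTerms r 9).all CentData.evenC) = true))) = true)
    (h10 : decide (r < chevG2.nroots ∧ 10 < chevG2.nroots ∧
      (10 = r ∨ (10 ≠ chevG2.neg r ∧ ((chevG2.commTerms r 10).all CentData.evenC) = true))) = true)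
    (h11 : decide (r < chevG2.nroots ∧ 11 < chevG2.nroots ∧
      (11 = r ∨ (11 ≠ chevG2.neg r ∧ ((chevG2.commTerms r 11).all CentData.evenC) = true))) = true)
    (t d e f : F) : Commute (R.xe r t) (R.eE d e f) :=
  ((R.G2_commute h9 t d).mul_right (R.G2_commute h10 t e)).mul_right (R.G2_commute h11 t f)

/-- normal form of an element of `U` -/
theorem G2_exists_form {g : G} (hg : g ∈ R.UP) : ∃ a b c d e f : F,
    g = R.xe 6 a * R.xe 7 b * (R.xe 8 c * R.eE d e f) := by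
  obtain ⟨t, rfl⟩ := R.exists_oprod_UP hg
  refine ⟨t 6, t 7, t 8, t 9, t 10, t 11, ?_⟩
  simp [oprod, eE, show half chevG2 = 6 from by decide +kernel, List.range'_succ, mul_assoc]

theorem G2_eight_mem {c : F} : R.xe 8 c ∈ R.US (geSet chevG2 8) :=
  R.xe_mem_US (S := geSet chevG2 8) (r := ⟨8, by decide +kernel⟩) (show 8 ≤ 8 from le_rfl) c

theorem G2_eE_mem (d e f : F) : R.eE d e f ∈ R.US (geSet chevG2 9) :=
  mul_mem (mul_mem (R.xe_mem_US (S := geSet chevG2 9) (r := ⟨9, by decide +kernel⟩) (show 9 ≤ 9 from le_rfl) d)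
    (R.xe_mem_US (S := geSet chevG2 9) (r := ⟨10, by decide +kernel⟩) (show 9 ≤ 10 by omega) e))
    (R.xe_mem_US (S := geSet chevG2 9) (r := ⟨11, by decide +kernel⟩) (show 9 ≤ 11 by omega) f)

/-- in an involution one of the simple coordinates vanishes -/
theorem G2_sq_coord {a b c d e f : F}
    (h : R.xe 6 a * R.xe 7 b * (R.xe 8 c * R.eE d e f) * (R.xe 6 a * R.xe 7 b * (R.xe 8 c * R.eE d e f)) = 1) :
    a = 0 ∨ b = 0 := by
  by_contra hne
  simp only [not_or] at hne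
  obtain ⟨m, hm⟩ : ∃ m, m = R.xe 8 c * R.eE d e f := ⟨_, rfl⟩
  rw [← hm] at h
  have h8 : half chevG2 ≤ 8 := by decide +kernel
  have hm8 : m ∈ R.US (geSet chevG2 8) := by
    rw [hm]; exact mul_mem R.G2_eight_mem (R.US_mono (geSet_succ_subset 8) (R.G2_eE_mem d e f))
  have hxU : R.xe 6 a * R.xe 7 b ∈ R.UP := mul_mem
    (R.xe_mem_US (S := posSet chevG2) (r := ⟨6, by decide +kernel⟩) (show half chevG2 ≤ 6 by decide +kernel) a)
    (R.xe_mem_US (S := posSet chevG2) (r := ⟨7, by decide +kernel⟩) (show half chevG2 ≤ 7 by decide +kernel) b)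
  have hrel := R.rel_of (r := 6) (s := 7) (L := [(8, 1, 1, 1), (9, 1, 1, 2), (10, -1, 1, 3)]) (by decide +kernel) a b
  have hW : (([(8, 1, 1, 1), (9, 1, 1, 2), (10, -1, 1, 3)] : List (ℕ × ℤ × ℕ × ℕ)).map fun c =>
      R.xe c.1 ((c.2.1 : F) * (-a) ^ c.2.2.1 * b ^ c.2.2.2)).prod =
        R.xe 8 (a * b) * R.eE (a * b ^ 2) (a * b ^ 3) 0 := by
    simp [eE, R.xe_zero, CharTwo.neg_eq, mul_assoc]
  rw [hW] at hrel
  obtain ⟨x, hx⟩ : ∃ x, x = R.xe 6 a * R.xe 7 b := ⟨_, rfl⟩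
  have hxx : x * x = R.xe 7 b * (R.xe 8 (a * b) * R.eE (a * b ^ 2) (a * b ^ 3) 0) * R.xe 7 b := by
    rw [hx, show R.xe 6 a * R.xe 7 b * (R.xe 6 a * R.xe 7 b) =
      R.xe 6 a * (R.xe 7 b * R.xe 6 a) * R.xe 7 b by group, hrel]
    simp only [← mul_assoc, R.G2_self, one_mul]
  rw [← hx] at h hxU
  have hmm : m * m ∈ R.US (geSet chevG2 9) := by
    rw [hm, show R.xe 8 c * R.eE d e f * (R.xe 8 c * R.eE d e f) =
      R.xe 8 c * R.eE d e f * R.xe 8 c * R.eE d e f by group, R.c8E]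
    exact mul_mem (R.G2_eE_mem _ _ _) (R.G2_eE_mem _ _ _)
  have hcm : x⁻¹ * m * x * m⁻¹ ∈ R.US (geSet chevG2 9) := by
    have := inv_mem (R.comm_mem_succ h8 hm8 (inv_mem hxU))
    rw [show (⁅m, x⁻¹⁆)⁻¹ = x⁻¹ * m * x * m⁻¹ by rw [commutatorElement_def]; group] at this
    exact this
  have hxx9 : x * x ∈ R.US (geSet chevG2 9) := by
    have e1 : x * x * ((x⁻¹ * m * x * m⁻¹) * (m * m)) = 1 := by rw [← h]; group
    rw [mul_eq_one_iff_eq_inv.1 e1]
    exact inv_mem (mul_mem hcm hmm)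
  rw [hxx, R.G2_conj_mul, R.c78, R.c7E, mul_assoc (R.xe 8 (a * b)), R.eE_mul,
    Subgroup.mul_mem_cancel_right _ (R.G2_eE_mem _ _ _)] at hxx9
  exact R.not_mem_succ (r := ⟨8, by decide +kernel⟩) h8 (mul_ne_zero hne.1 hne.2) hxx9

theorem G2_isConj_conj {r : ℕ} (s : F) (g : G) : IsConj g (R.xe r s * g * R.xe r s) :=
  isConj_iff.2 ⟨R.xe r s, by rw [R.G2_inv]⟩

/-- transport of root elements by a simple reflection -/
theorem G2_mon (i : Fin chevG2.rank) {r r' : ℕ} (hr : r < chevG2.nroots) (h : auxG2.w i r = r') :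
    ∃ v : F, v ≠ 0 ∧ ∀ t, R.ne (chevG2.simple i) 1 * R.xe r t * (R.ne (chevG2.simple i) 1)⁻¹ = R.xe r' (v * t) := by
  obtain ⟨h1, -, -, h4⟩ := R.isMon_ne_simple i (one_ne_zero (α := F)) ⟨r, hr⟩
  subst h
  exact ⟨_, h1, h4⟩

theorem G2_scale (i : Fin chevG2.rank) {r : ℕ} (hr : r < chevG2.nroots) (h : chevG2.cartan i r = 1) {v : F}
    (hv : v ≠ 0) : IsConj (R.xe r v) (R.xe r 1) := by
  obtain ⟨-, -, -, h4⟩ := R.isMon_he_simple i (inv_ne_zero hv) ⟨r, hr⟩
  refine isConj_iff.2 ⟨_, (h4 v).trans ?_⟩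
  simp [h, inv_mul_cancel₀ hv]

/-- the conclusion for a single element -/
def G2Red (g : G) : Prop := g = 1 ∨ IsConj g (R.xe 11 1) ∨ IsConj g (R.xe 9 1)

theorem G2Red.of_isConj {g h : G} (hc : IsConj g h) (hh : R.G2Red h) : R.G2Red g := by
  rcases hh with rfl | h1 | h1
  · exact Or.inl (isConj_one_left.1 hc)
  · exact Or.inr (Or.inl (hc.trans h1))
  · exact Or.inr (Or.inr (hc.trans h1))

theorem G2_red_eE (d e f : F) : R.G2Red (R.eE d e f) := by
  by_cases hd : d = 0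
  · subst hd
    by_cases he : e = 0
    · subst he
      by_cases hf : f = 0
      · subst hf; exact Or.inl R.eE_zero
      · rw [← R.eE_eleven]
        exact Or.inr (Or.inl (R.G2_scale (1 : Fin 2) (by decide +kernel) (by decide +kernel) hf))
    · refine G2Red.of_isConj R (R.G2_isConj_conj (r := 6) (f / e) _) ?_
      rw [R.c6E, div_mul_cancel₀ f he, CharTwo.add_self_eq_zero, ← R.eE_ten]
      obtain ⟨v, hv, hm⟩ := R.G2_mon (1 : Fin 2) (r := 10) (r' := 11) (by decide +kernel) (by decide +kernel)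
      exact Or.inr (Or.inl ((isConj_iff.2 ⟨_, hm e⟩).trans
        (R.G2_scale (1 : Fin 2) (by decide +kernel) (by decide +kernel) (mul_ne_zero hv he))))
  · refine G2Red.of_isConj R (R.G2_isConj_conj (r := 7) (e / d) _) ?_
    rw [R.c7E, div_mul_cancel₀ e hd, CharTwo.add_self_eq_zero]
    refine G2Red.of_isConj R (R.G2_isConj_conj (r := 8) (f / d) _) ?_
    rw [R.c8E, div_mul_cancel₀ f hd, CharTwo.add_self_eq_zero, ← R.eE_nine]
    exact Or.inr (Or.inr (R.G2_scale (0 : Fin 2) (by decide +kernel) (by decide +kernel) hd))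

theorem G2_red_seven (hperf : ∀ x : F, IsSquare x) {b : F} (hb : b ≠ 0) (d e f : F)
    (hg : R.xe 7 b * R.eE d e f * (R.xe 7 b * R.eE d e f) = 1) : R.G2Red (R.xe 7 b * R.eE d e f) := by
  have hd : d = 0 := by
    rw [← mul_assoc, R.c7E, R.eE_mul, ← R.eE_zero] at hg
    have h10 : e + b * d + e = 0 := by
      have := hg
      rw [R.eE_zero] at this
      by_contra hne
      simp only [CharTwo.add_self_eq_zero] at this
      rw [show R.eE 0 (e + b * d + e) 0 = R.xe 10 (e + b * d + e) from (R.eE_ten _).symm] at this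
      exact hne (R.xe_inj_param (r := ⟨10, by decide +kernel⟩) (this.trans (R.xe_zero 10).symm))
    rw [add_right_comm, CharTwo.add_self_eq_zero, zero_add] at h10
    exact (mul_eq_zero.1 h10).resolve_left hb
  subst hd
  obtain ⟨s, hs⟩ := hperf (f / b)
  refine G2Red.of_isConj R (R.G2_isConj_conj (r := 8) s _) ?_
  rw [R.G2_conj_mul, R.c87, R.c8E, mul_assoc, R.eE_mul]
  refine G2Red.of_isConj R (R.G2_isConj_conj (r := 9) ((e + b ^ 2 * s) / b) _) ?_
  rw [R.G2_conj_mul, R.c97]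
  have hfix : ∀ (t x y z : F), R.xe 9 t * R.eE x y z * R.xe 9 t = R.eE x y z := fun t x y z => by
    rw [(R.G2_commute_eE (by decide +kernel) (by decide +kernel) (by decide +kernel) t x y z).eq, mul_assoc,
      R.G2_self, mul_one]
  rw [hfix, mul_assoc, R.eE_mul]
  have e1 : b * s ^ 2 + (f + s * 0) = 0 := by
    rw [mul_zero, add_zero, sq, ← hs, mul_div_cancel₀ f hb, CharTwo.add_self_eq_zero]
  have e2 : (e + b ^ 2 * s) / b * b + (b ^ 2 * s + e) = 0 := by
    rw [div_mul_cancel₀ _ hb, add_comm e, CharTwo.add_self_eq_zero]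
  simp only [e1, e2, zero_add, R.eE_zero, mul_one]
  obtain ⟨v, hv, hm⟩ := R.G2_mon (1 : Fin 2) (r := 7) (r' := 8) (by decide +kernel) (by decide +kernel)
  obtain ⟨v', hv', hm'⟩ := R.G2_mon (0 : Fin 2) (r := 8) (r' := 9) (by decide +kernel) (by decide +kernel)
  exact Or.inr (Or.inr (((isConj_iff.2 ⟨_, hm b⟩).trans (isConj_iff.2 ⟨_, hm' (v * b)⟩)).trans
    (R.G2_scale (0 : Fin 2) (by decide +kernel) (by decide +kernel) (mul_ne_zero hv' (mul_ne_zero hv hb)))))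

theorem G2_sq_one_of_conj {g h : G} (hc : IsConj g h) (hg : g * g = 1) : h * h = 1 := by
  obtain ⟨c, rfl⟩ := isConj_iff.1 hc
  calc c * g * c⁻¹ * (c * g * c⁻¹) = c * (g * g) * c⁻¹ := by group
    _ = 1 := by rw [hg]; group

theorem G2_red_radical (hperf : ∀ x : F, IsSquare x) (b c d e f : F)
    (hg : R.xe 7 b * (R.xe 8 c * R.eE d e f) * (R.xe 7 b * (R.xe 8 c * R.eE d e f)) = 1) :
    R.G2Red (R.xe 7 b * (R.xe 8 c * R.eE d e f)) := by
  by_cases hb : b = 0
  · subst hb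
    rw [R.xe_zero, one_mul] at hg ⊢
    by_cases hc : c = 0
    · subst hc; rw [R.xe_zero, one_mul]; exact R.G2_red_eE d e f
    · obtain ⟨v8, hv8, h8⟩ := R.G2_mon (1 : Fin 2) (r := 8) (r' := 7) (by decide +kernel) (by decide +kernel)
      obtain ⟨v9, -, h9⟩ := R.G2_mon (1 : Fin 2) (r := 9) (r' := 9) (by decide +kernel) (by decide +kernel)
      obtain ⟨v10, -, h10⟩ := R.G2_mon (1 : Fin 2) (r := 10) (r' := 11) (by decide +kernel) (by decide +kernel)
      obtain ⟨v11, -, h11⟩ := R.G2_mon (1 : Fin 2) (r := 11) (r' := 10) (by decide +kernel) (by decide +kernel)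
      have hcE : Commute (R.xe 11 (v10 * e)) (R.xe 10 (v11 * f)) := R.G2_commute (by decide +kernel) _ _
      have hc' : IsConj (R.xe 8 c * R.eE d e f) (R.xe 7 (v8 * c) * R.eE (v9 * d) (v11 * f) (v10 * e)) := by
        refine isConj_iff.2 ⟨R.ne (chevG2.simple (1 : Fin 2)) 1, ?_⟩
        simp only [eE]
        rw [← conj_mul, ← conj_mul, ← conj_mul, h8, h9, h10, h11]
        simp only [mul_assoc, hcE.eq]
      exact G2Red.of_isConj R hc' (R.G2_red_seven hperf (mul_ne_zero hv8 hc) _ _ _ (R.G2_sq_one_of_conj hc' hg))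
  · have hc' := R.G2_isConj_conj (r := 6) (c / b) (R.xe 7 b * (R.xe 8 c * R.eE d e f))
    rw [R.G2_conj_mul, R.c67, R.G2_conj_mul, R.G2_conj_fix (by decide +kernel), R.c6E, div_mul_cancel₀ c hb] at hc'
    have e1 : ∀ x y z x' y' z' : F, R.xe 8 c * R.eE x y z * (R.xe 8 c * R.eE x' y' z') =
        R.eE (x + x') (y + y') (z + c * x + z') := by
      intro x y z x' y' z'
      rw [← mul_assoc, R.c8E, R.eE_mul]
    rw [mul_assoc (R.xe 7 b), e1] at hc'
    exact G2Red.of_isConj R hc' (R.G2_red_seven hperf hb _ _ _ (R.G2_sq_one_of_conj hc' hg))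

/-- every involution of `U` is conjugate to one of the two representatives -/
theorem G2_red (hperf : ∀ x : F, IsSquare x) {g : G} (hg : g ∈ R.UP) (h2 : g * g = 1) : R.G2Red g := by
  obtain ⟨a, b, c, d, e, f, rfl⟩ := R.G2_exists_form hg
  rcases R.G2_sq_coord h2 with ha | hb
  · subst ha
    rw [R.xe_zero, one_mul] at h2 ⊢
    exact R.G2_red_radical hperf b c d e f h2
  · subst hb
    by_cases ha : a = 0
    · subst ha
      rw [R.xe_zero, one_mul] at h2 ⊢
      exact R.G2_red_radical hperf 0 c d e f h2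
    rw [R.xe_zero, mul_one] at h2 ⊢
    have hc1 := R.G2_isConj_conj (r := 7) (c / a) (R.xe 6 a * (R.xe 8 c * R.eE d e f))
    obtain ⟨d1, e1, f1, h76⟩ := R.c76 (c / a) a
    rw [R.G2_conj_mul, h76, R.G2_conj_mul, R.c78, R.c7E, mul_assoc (R.xe 8 c), R.eE_mul, mul_div_cancel₀ c ha,
      mul_assoc (R.xe 6 a), show R.xe 8 c * R.eE d1 e1 f1 * (R.xe 8 c * R.eE
        (0 + d) ((c / a) ^ 2 * c + (e + c / a * d)) (c / a * c ^ 2 + f)) =
        R.xe 8 c * R.eE d1 e1 f1 * R.xe 8 c * R.eE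
        (0 + d) ((c / a) ^ 2 * c + (e + c / a * d)) (c / a * c ^ 2 + f) by group, R.c8E, R.eE_mul] at hc1
    obtain ⟨D', E', F', hc2⟩ : ∃ D' E' F', IsConj (R.xe 6 a * (R.xe 8 c * R.eE d e f)) (R.xe 6 a * R.eE D' E' F') :=
      ⟨_, _, _, hc1⟩
    have hsq := R.G2_sq_one_of_conj hc2 h2
    rw [← mul_assoc, R.c6E, R.eE_mul] at hsq
    simp only [CharTwo.add_self_eq_zero] at hsq
    rw [← R.eE_eleven, add_right_comm, CharTwo.add_self_eq_zero, zero_add] at hsq
    have hE : E' = 0 :=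
      (mul_eq_zero.1 (R.xe_inj_param (r := ⟨11, by decide +kernel⟩) (hsq.trans (R.xe_zero 11).symm))).resolve_left ha
    subst hE
    obtain ⟨v6, hv6, h6⟩ := R.G2_mon (0 : Fin 2) (r := 6) (r' := 10) (by decide +kernel) (by decide +kernel)
    obtain ⟨v9, -, h9⟩ := R.G2_mon (0 : Fin 2) (r := 9) (r' := 8) (by decide +kernel) (by decide +kernel)
    obtain ⟨v11, -, h11⟩ := R.G2_mon (0 : Fin 2) (r := 11) (r' := 11) (by decide +kernel) (by decide +kernel)
    have hcm : Commute (R.xe 10 (v6 * a)) (R.xe 8 (v9 * D')) := R.G2_commute (by decide +kernel) _ _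
    have hc3 : IsConj (R.xe 6 a * R.eE D' 0 F')
        (R.xe 7 0 * (R.xe 8 (v9 * D') * R.eE 0 (v6 * a) (v11 * F'))) := by
      refine isConj_iff.2 ⟨R.ne (chevG2.simple (0 : Fin 2)) 1, ?_⟩
      simp only [eE, R.xe_zero, mul_one, one_mul]
      rw [← conj_mul, ← conj_mul, h6, h9, h11]
      rw [← mul_assoc, hcm.eq]
      group
    refine G2Red.of_isConj R (hc2.trans hc3) (R.G2_red_radical hperf _ _ _ _ _ ?_)
    exact R.G2_sq_one_of_conj (hc2.trans hc3) h2

/-- the two representatives are not conjugate -/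
theorem G2_not_isConj : ¬ IsConj (R.xe 9 1) (R.xe 11 1) := by
  intro hc
  obtain ⟨g, hg⟩ := isConj_iff.1 hc
  obtain ⟨hS, -, hC, -, -, -⟩ := CentData.chk_split centG2short_chk
  obtain ⟨b, hb, n, u, hu, rfl⟩ := R.exists_bnu g
  obtain ⟨v, hv, h, hh, rfl⟩ := R.exists_of_mem_BS hb
  have hS9 : R.PV (oneT centG2short F) = R.xe 9 1 := by
    have e : oneT centG2short F = Pi.single 9 1 := by
      funext r
      by_cases h : r = 9
      · subst h; simp [oneT, centG2short]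
      · simp [oneT, centG2short, h, Pi.single_eq_of_ne h]
    rw [e, R.PV_single (by decide +kernel) (by decide +kernel)]
  obtain ⟨fx, -, hfxT, ex⟩ := R.good_conj hS (R.oneT_supp hS) (R.US_mono (invSet_subset _) hu)
  rw [hS9] at ex
  have hcv : Commute v (R.xe 11 1) := by
    refine closure_induction_symm R.gens_symm ?_ ?_ hv
    · exact Commute.one_left _
    · intro x hx y ih
      obtain ⟨r, hr, t, rfl⟩ := hx
      refine Commute.mul_left ?_ ih
      have h11 : ∀ r : Fin chevG2.nroots, half chevG2 ≤ (r : ℕ) →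
          (r : ℕ) = 11 ∨ ((11 : ℕ) ≠ chevG2.neg r ∧ ∀ c ∈ chevG2.commTerms r 11, CentData.evenC c = true) := by
        have : (List.range chevG2.nroots).all (fun r => decide (half chevG2 ≤ r →
            r = 11 ∨ ((11 : ℕ) ≠ chevG2.neg r ∧ (chevG2.commTerms r 11).all CentData.evenC = true))) = true := by
          decide +kernel
        intro r hr
        simpa using (of_decide_eq_true (List.all_eq_true.1 this r (List.mem_range.2 r.2))) hr
      exact R.commute_of_even r.2 (by decide +kernel) ((h11 r hr).imp Eq.symm id) t 1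
  obtain ⟨a, ha⟩ := R.isMon_of_mem_HS (inv_mem hh)
  obtain ⟨b', hb'⟩ := R.exists_isMon ⟨(n : G)⁻¹ * h⁻¹, R.NS_le_Mon (mul_mem (inv_mem n.2) (R.HS_le_NS (inv_mem hh)))⟩
  obtain ⟨r, hr⟩ : ∃ r, r = R.monPerm ⟨(n : G)⁻¹ * h⁻¹, R.NS_le_Mon (mul_mem (inv_mem n.2) (R.HS_le_NS (inv_mem hh)))⟩
      ⟨11, by decide +kernel⟩ := ⟨_, rfl⟩
  obtain ⟨hb0, -, -, hconj⟩ := hb' ⟨11, by decide +kernel⟩
  have heq : R.xe r (b' ⟨11, by decide +kernel⟩ * 1) = R.PV fx := by
    rw [hr, ← hconj 1, ← ex]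
    show (n : G)⁻¹ * h⁻¹ * R.xe 11 1 * ((n : G)⁻¹ * h⁻¹)⁻¹ = u * R.xe 9 1 * u⁻¹
    calc (n : G)⁻¹ * h⁻¹ * R.xe 11 1 * ((n : G)⁻¹ * h⁻¹)⁻¹
        = (n : G)⁻¹ * h⁻¹ * (v⁻¹ * (R.xe 11 1 * v)) * ((n : G)⁻¹ * h⁻¹)⁻¹ := by
          rw [← hcv.eq]; group
      _ = (n : G)⁻¹ * h⁻¹ * (v⁻¹ * ((v * h * n * u * R.xe 9 1 * (v * h * n * u)⁻¹) * v)) *
            ((n : G)⁻¹ * h⁻¹)⁻¹ := by rw [hg]
      _ = _ := by group
  rw [mul_one] at heq
  have hrp : half chevG2 ≤ (r : ℕ) := by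
    by_contra hneg
    exact R.xe_not_BS hneg hb0 (R.UP_le_BS (R.PV_mem fx)) (congrArg R.θ heq.symm)
  rw [← R.PV_single hrp r.2] at heq
  have h9 := R.PV_inj heq (r := 9) (by decide +kernel) (by decide +kernel)
  rw [hfxT 9 (by decide)] at h9
  have hr9 : (r : ℕ) = 9 := by
    by_contra hne
    rw [Pi.single_eq_of_ne (Ne.symm hne)] at h9
    simp [oneT, centG2short] at h9
  have hqm : R.monPerm ⟨(n : G)⁻¹ * h⁻¹, R.NS_le_Mon (mul_mem (inv_mem n.2) (R.HS_le_NS (inv_mem hh)))⟩ =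
      R.qact (R.qmk ⟨(n : G)⁻¹ * h⁻¹, mul_mem (inv_mem n.2) (R.HS_le_NS (inv_mem hh))⟩) := rfl
  have hcls := R.cls_act hC (R.qmk ⟨(n : G)⁻¹ * h⁻¹, mul_mem (inv_mem n.2) (R.HS_le_NS (inv_mem hh))⟩)
    ⟨11, by decide +kernel⟩
  rw [← hqm, ← hr, hr9] at hcls
  exact absurd hcls (by decide +kernel)

end CfsgLib.Lie.Chev.Rel
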